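import Mathlib.Algebra.Category.ModuleCat.Abelian
import Mathlib.Algebra.Homology.DerivedCategory.KProjective
import Mathlib.Algebra.Homology.DerivedCategory.Linear
import Mathlib.Algebra.Homology.HomotopyCategory.HomComplexSingle
import Mathlib.RingTheory.Filtration
import Mathlib.RingTheory.Finiteness.Basic
import Mathlib.LinearAlgebra.FreeModule.Finite.Basic
import Mathlib.LinearAlgebra.FreeModule.Finite.Matrix
import Mathlib.LinearAlgebra.Basis.Basic

/-! Morphisms in `D(R)` from a K-projective complex to a shifted module. -/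

set_option autoImplicit false
set_option linter.style.haveILetI false
universe u

open CategoryTheory CategoryTheory.Limits
open CochainComplex.HomComplex
attribute [local instance] HasDerivedCategory.standard

namespace Groth.Agent.HomSingleLib

variable {R : Type u} [CommRing R]


variable {E : CochainComplex (ModuleCat.{u} R) ℤ} {q : ℤ} {X Y : (ModuleCat.{u} R)}

/-- The map to a single complex given by a cocycle. -/
noncomputable def mkS (f : E.X q ⟶ X) (hf : E.d (q - 1) q ≫ f = 0) :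
    E ⟶ (CochainComplex.singleFunctor (ModuleCat.{u} R) q).obj X :=
  HomologicalComplex.mkHomToSingle f fun i hi => by
    obtain rfl : i = q - 1 := by simp at hi; omega
    exact hf

theorem mkS_f (f : E.X q ⟶ X) (hf : E.d (q - 1) q ≫ f = 0) :
    (mkS f hf).f q = f ≫ (HomologicalComplex.singleObjXSelf (.up ℤ) q X).inv :=
  HomologicalComplex.mkHomToSingle_f _ _

theorem mkS_surjective (φ : E ⟶ (CochainComplex.singleFunctor (ModuleCat.{u} R) q).obj X) :
    ∃ f hf, mkS f hf = φ := by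
  refine ⟨φ.f q ≫ (HomologicalComplex.singleObjXSelf (.up ℤ) q X).hom, ?_, ?_⟩
  · rw [← φ.comm_assoc]
    simp [CochainComplex.singleFunctor, CochainComplex.singleFunctors]
  · apply HomologicalComplex.to_single_hom_ext
    rw [mkS_f]
    simp
    erw [Iso.hom_inv_id, Category.comp_id]

theorem mkS_comp (f : E.X q ⟶ X) (hf : E.d (q - 1) q ≫ f = 0) (g : X ⟶ Y) :
    mkS (f ≫ g) (by rw [← Category.assoc, hf, zero_comp]) =
      mkS f hf ≫ (CochainComplex.singleFunctor (ModuleCat.{u} R) q).map g := by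
  apply HomologicalComplex.to_single_hom_ext
  rw [HomologicalComplex.comp_f, mkS_f, mkS_f]
  simp [CochainComplex.singleFunctor, CochainComplex.singleFunctors, HomologicalComplex.single_map_f_self]

theorem mkS_sub (f g : E.X q ⟶ X) (hf : E.d (q - 1) q ≫ f = 0) (hg : E.d (q - 1) q ≫ g = 0) :
    mkS (f - g) (by rw [Preadditive.comp_sub, hf, hg, sub_zero]) = mkS f hf - mkS g hg := by
  apply HomologicalComplex.to_single_hom_ext
  rw [HomologicalComplex.sub_f_apply, mkS_f, mkS_f, mkS_f, Preadditive.sub_comp]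
  rfl

theorem ofHom_mkS (f : E.X q ⟶ X) (hf : E.d (q - 1) q ≫ f = 0) :
    Cochain.ofHom (mkS f hf) = Cochain.toSingleMk f (add_zero q) := by
  apply (Cochain.toSingleEquiv (add_zero q)).injective
  rw [Cochain.toSingleEquiv_toSingleMk]
  simp [Cochain.toSingleEquiv, mkS_f]
  erw [Category.assoc, Iso.inv_hom_id, Category.comp_id]

theorem Q_map_mkS_eq_zero_iff [E.IsKProjective] (f : E.X q ⟶ X) (hf : E.d (q - 1) q ≫ f = 0) :
    DerivedCategory.Q.map (mkS f hf) = 0 ↔ ∃ g : E.X (q + 1) ⟶ X, E.d q (q + 1) ≫ g = f := by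
  have hiff : DerivedCategory.Q.map (mkS f hf) = 0 ↔
      (HomotopyCategory.quotient (ModuleCat.{u} R) (.up ℤ)).map (mkS f hf) = 0 := by
    rw [← NatIso.naturality_1 (DerivedCategory.quotientCompQhIso (ModuleCat.{u} R)) (mkS f hf)]
    constructor
    · intro h
      rw [← cancel_mono ((DerivedCategory.quotientCompQhIso (ModuleCat.{u} R)).inv.app _),
        ← cancel_epi ((DerivedCategory.quotientCompQhIso (ModuleCat.{u} R)).hom.app _)] at h
      simp at h
      exact (CochainComplex.IsKProjective.Qh_map_bijective E _).1 (h.trans (Functor.map_zero _ _ _).symm)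
    · intro h
      rw [Functor.comp_map, h, Functor.map_zero]
      simp
      exact zero_comp
  rw [hiff]
  constructor
  · intro h
    have H : Homotopy (mkS f hf) 0 := HomotopyCategory.homotopyOfEq _ _ (by rw [h, Functor.map_zero])
    refine ⟨H.hom (q + 1) q ≫ (HomologicalComplex.singleObjXSelf (.up ℤ) q X).hom, ?_⟩
    have h1 := H.comm q
    rw [dNext_eq _ (show (ComplexShape.up ℤ).Rel q (q + 1) by simp),
      prevD_eq _ (show (ComplexShape.up ℤ).Rel (q - 1) q by simp), mkS_f] at h1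
    simp [CochainComplex.singleFunctor, CochainComplex.singleFunctors] at h1
    rw [← Category.assoc]
    erw [add_zero, add_zero] at h1
    exact ((Iso.comp_inv_eq _).1 h1).symm
  · rintro ⟨g, hg⟩
    rw [← Functor.map_zero (HomotopyCategory.quotient (ModuleCat.{u} R) (.up ℤ))]
    refine HomotopyCategory.eq_of_homotopy _ _ ((Cochain.equivHomotopy _ _).symm
      ⟨Cochain.toSingleMk g (show q + 1 + (-1) = q by omega), ?_⟩)
    rw [Cochain.δ_toSingleMk g _ 0 q (add_zero q), hg, ofHom_mkS]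
    simp

variable {i : ℤ}

/-- `(X[0])[i] = X[q]` for `i + q = 0`. -/
noncomputable def shiftNatIso (h : i + q = 0) :
    DerivedCategory.singleFunctor (ModuleCat.{u} R) 0 ⋙ shiftFunctor _ i ≅
      CochainComplex.singleFunctor (ModuleCat.{u} R) q ⋙ DerivedCategory.Q :=
  (DerivedCategory.singleFunctors (ModuleCat.{u} R)).shiftIso i q 0 h ≪≫
    (SingleFunctors.evaluation _ _ q).mapIso (DerivedCategory.singleFunctorsPostcompQIso (ModuleCat.{u} R))

variable {K : DerivedCategory (ModuleCat.{u} R)} (h : i + q = 0) (e : DerivedCategory.Q.obj E ≅ K)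

/-- The class of a cocycle. -/
noncomputable def cls (f : E.X q ⟶ X) (hf : E.d (q - 1) q ≫ f = 0) :
    K ⟶ ((DerivedCategory.singleFunctor (ModuleCat.{u} R) 0).obj X)⟦i⟧ :=
  e.inv ≫ DerivedCategory.Q.map (mkS f hf) ≫ (shiftNatIso h).inv.app X

theorem cls_surjective [E.IsKProjective] (φ : K ⟶ ((DerivedCategory.singleFunctor (ModuleCat.{u} R) 0).obj X)⟦i⟧) :
    ∃ f hf, cls h e f hf = φ := by
  obtain ⟨ψ', hψ'⟩ := (CochainComplex.IsKProjective.Qh_map_bijective E
    ((HomotopyCategory.quotient _ (ComplexShape.up ℤ)).obj ((CochainComplex.singleFunctor (ModuleCat.{u} R) q).obj X))).2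
      ((DerivedCategory.quotientCompQhIso (ModuleCat.{u} R)).hom.app E ≫ e.hom ≫ φ ≫ (shiftNatIso h).hom.app X ≫
        (DerivedCategory.quotientCompQhIso (ModuleCat.{u} R)).inv.app _)
  obtain ⟨ψ, rfl⟩ := (HomotopyCategory.quotient _ (ComplexShape.up ℤ)).map_surjective ψ'
  obtain ⟨f, hf, rfl⟩ := mkS_surjective ψ
  refine ⟨f, hf, ?_⟩
  rw [cls, ← NatIso.naturality_1 (DerivedCategory.quotientCompQhIso (ModuleCat.{u} R)) (mkS f hf), Functor.comp_map, hψ']
  simp
  erw [Iso.inv_hom_id_app_assoc, Iso.hom_inv_id_app, Category.comp_id]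

theorem cls_eq_zero_iff [E.IsKProjective] (f : E.X q ⟶ X) (hf : E.d (q - 1) q ≫ f = 0) :
    cls h e f hf = 0 ↔ ∃ g : E.X (q + 1) ⟶ X, E.d q (q + 1) ≫ g = f := by
  rw [cls, ← Q_map_mkS_eq_zero_iff f hf]
  constructor
  · intro h0
    rw [← cancel_epi e.inv, ← cancel_mono ((shiftNatIso h).inv.app X)]
    simpa using h0
  · intro h0
    simp [h0]

theorem cls_comp (f : E.X q ⟶ X) (hf : E.d (q - 1) q ≫ f = 0) (g : X ⟶ Y) :
    cls h e (f ≫ g) (by rw [← Category.assoc, hf, zero_comp]) =
      cls h e f hf ≫ ((DerivedCategory.singleFunctor (ModuleCat.{u} R) 0).map g)⟦i⟧' := by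
  rw [cls, cls, mkS_comp f hf, Functor.map_comp, Category.assoc, Category.assoc, Category.assoc]
  congr 2
  exact (shiftNatIso h).inv.naturality g

theorem cls_sub (f g : E.X q ⟶ X) (hf : E.d (q - 1) q ≫ f = 0) (hg : E.d (q - 1) q ≫ g = 0) :
    cls h e (f - g) (by rw [Preadditive.comp_sub, hf, hg, sub_zero]) = cls h e f hf - cls h e g hg := by
  rw [cls, cls, cls, mkS_sub f g hf hg, Functor.map_sub, Preadditive.sub_comp, Preadditive.comp_sub]

theorem cls_congr {f g : E.X q ⟶ X} (hf : E.d (q - 1) q ≫ f = 0) (hg : E.d (q - 1) q ≫ g = 0) (hfg : f = g) :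
    cls h e f hf = cls h e g hg := by
  subst hfg; rfl

theorem cls_smul (r : R) (f : E.X q ⟶ X) (hf : E.d (q - 1) q ≫ f = 0) :
    cls h e (r • f) (by rw [Linear.comp_smul, hf, smul_zero]) = r • cls h e f hf := by
  rw [cls_congr h e _ (by rw [← Category.assoc, hf, zero_comp]) (show r • f = f ≫ (r • 𝟙 X) by simp),
    cls_comp h e f hf (r • 𝟙 X), Functor.map_smul, CategoryTheory.Functor.map_id, Functor.map_smul, CategoryTheory.Functor.map_id,
    Linear.comp_smul, Category.comp_id]

section Algebra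

variable {A : Type u} [CommRing A]

/-- A map out of a finite free module with values in `J • M` lies in `J • Hom`. -/
theorem mem_smul_top_of_values {P N : Type u} [AddCommGroup P] [Module A P] [AddCommGroup N] [Module A N]
    [Module.Free A P] [Module.Finite A P] (J : Ideal A) (f : P →ₗ[A] N)
    (hf : ∀ x, f x ∈ (J • ⊤ : Submodule A N)) : f ∈ (J • ⊤ : Submodule A (P →ₗ[A] N)) := by
  classical
  rcases subsingleton_or_nontrivial A with hA | hA
  · have := Module.subsingleton A (P →ₗ[A] N)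
    rw [Subsingleton.elim f 0]
    exact zero_mem _
  let b := Module.Free.chooseBasis A P
  have hsum : f = ∑ j, (b.coord j).smulRight (f (b j)) := b.ext fun k => by
    rw [LinearMap.sum_apply, Finset.sum_eq_single k]
    · simp
    · intro j _ hj; simp [Ne.symm hj]
    · intro hk; exact absurd (Finset.mem_univ k) hk
  rw [hsum]
  refine Submodule.sum_mem _ fun j _ => ?_
  have h1 : Submodule.map (LinearMap.smulRightₗ (b.coord j)) (J • ⊤ : Submodule A N) ≤ J • ⊤ := by
    rw [Submodule.map_smul'']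
    exact Submodule.smul_mono le_rfl le_top
  exact h1 ⟨_, hf (b j), rfl⟩

/-- Torsion cohomology: cocycles deep in the filtration are coboundaries. -/
theorem exists_deep_coboundary [IsNoetherianRing A] (I : Ideal A) {P₀ P₁ P₂ N : Type u}
    [AddCommGroup P₀] [Module A P₀] [AddCommGroup P₁] [Module A P₁] [AddCommGroup P₂] [Module A P₂]
    [AddCommGroup N] [Module A N] [Module.Free A P₁] [Module.Finite A P₁] [Module.Finite A N]
    (d₀ : P₀ →ₗ[A] P₁) (d₁ : P₁ →ₗ[A] P₂)
    (htors : ∀ f : P₁ →ₗ[A] N, f ∘ₗ d₀ = 0 → ∃ n : ℕ, ∀ x ∈ I ^ n, ∃ g, g ∘ₗ d₁ = x • f) :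
    ∃ m₀ : ℕ, ∀ m ≥ m₀, ∀ f : P₁ →ₗ[A] N, f ∘ₗ d₀ = 0 →
      (∀ p, f p ∈ (I ^ m • ⊤ : Submodule A N)) → ∃ g, g ∘ₗ d₁ = f := by
  let Z : Submodule A (P₁ →ₗ[A] N) := LinearMap.ker (LinearMap.lcomp A N d₀)
  let B : Submodule A (P₁ →ₗ[A] N) := LinearMap.range (LinearMap.lcomp A N d₁)
  haveI : IsNoetherian A (P₁ →ₗ[A] N) := by
    haveI : Module.Finite A (P₁ →ₗ[A] N) := Module.Finite.linearMap A A P₁ N
    infer_instance
  obtain ⟨S, hS⟩ := (IsNoetherian.noetherian Z)
  have hSZ : ∀ f ∈ S, f ∘ₗ d₀ = 0 := fun f hf => by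
    have : f ∈ Z := hS ▸ Submodule.subset_span hf
    exact this
  choose n hn using htors
  let c := S.attach.sup fun f => n f.1 (hSZ f.1 f.2)
  obtain ⟨k, hk⟩ := Ideal.exists_pow_inf_eq_pow_smul I Z
  refine ⟨c + k, fun m hm f hf hfI => ?_⟩
  have h1 : f ∈ (I ^ m • ⊤ ⊓ Z : Submodule A (P₁ →ₗ[A] N)) := ⟨mem_smul_top_of_values _ f hfI, hf⟩
  rw [hk m (by omega)] at h1
  have h2 : f ∈ (I ^ c • Z : Submodule A (P₁ →ₗ[A] N)) :=
    Submodule.smul_mono (Ideal.pow_le_pow_right (by omega)) inf_le_right h1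
  have h3 : I ^ c • Z ≤ B := by
    rw [Submodule.smul_le]
    intro x hx z hz
    rw [← hS] at hz
    induction hz using Submodule.span_induction with
    | mem z hz =>
      obtain ⟨g, hg⟩ := hn z (hSZ z hz) x
        (Ideal.pow_le_pow_right (Finset.le_sup (f := fun f => n f.1 (hSZ f.1 f.2)) (S.mem_attach ⟨z, hz⟩)) hx)
      exact ⟨g, hg⟩
    | zero => rw [smul_zero]; exact zero_mem _
    | add a b _ _ ha hb => rw [smul_add]; exact add_mem ha hb
    | smul r a _ ha => rw [smul_comm]; exact Submodule.smul_mem _ r ha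
  obtain ⟨g, hg⟩ := h3 h2
  exact ⟨g, hg⟩

end Algebra

end Groth.Agent.HomSingleLib
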